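import Cfsg.Agent.H968.Tor.FiTwo
import Cfsg.Agent.H256.Sep.FiData
import Cfsg.Agent.H842.SevenSyl
import Cfsg.Agent.H163.PG.Fi24

/-!
# S3235: the facts for `Fi23` and `Fi24'` (helper968, task 2771)

* `facts_fi23`, `facts_fi24` : for every prime `p ≥ 5`.
-/

set_option autoImplicit false
set_option linter.constructorNameAsVariable false
set_option maxRecDepth 10000

namespace Cfsg.Agent.H968.Tor

open Cfsg Subgroup Cfsg.Agent.H33.Tor Cfsg.Spor
open Cfsg.Agent.LThreeFi22 (fix_modEq)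

universe u

theorem dvd_key {p : ℕ} (hp : p.Prime) (l : List ℕ) (hl : ∀ q ∈ l, q.Prime) (h : p ∣ l.prod) : p ∈ l := by
  induction l with
  | nil =>
    rw [List.prod_nil] at h
    exact absurd (Nat.dvd_one.1 h) hp.one_lt.ne'
  | cons q l ih =>
    rw [List.prod_cons] at h
    rcases hp.dvd_mul.1 h with h | h
    · rw [(Nat.prime_dvd_prime_iff_eq hp (hl q (by simp))).1 h]
      simp
    · exact List.mem_cons_of_mem _ (ih (fun r hr => hl r (List.mem_cons_of_mem _ hr)) h)

/-! ### `Fi23` -/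

section Fi23

open Cfsg.Agent.H163.PG.FiTT (Fx fx_modEq)

theorem cases23 {p : ℕ} (hp : p.Prime) (hp5 : 5 ≤ p) (h : p ∣ 4089470473293004800) :
    (p = 5 ∨ p = 7 ∨ p = 11 ∨ p = 13) ∨ p = 17 ∨ p = 23 := by
  have h1 : p ∣ 6 ^ 18 * [5, 5, 7, 11, 13, 17, 23].prod :=
    h.trans (by norm_num)
  rcases hp.dvd_mul.1 h1 with h2 | h2
  · have h3 : p ∣ 2 * 3 := hp.dvd_of_dvd_pow h2
    rcases hp.dvd_mul.1 h3 with h4 | h4
    · have := Nat.le_of_dvd (by norm_num) h4; omega
    · have := Nat.le_of_dvd (by norm_num) h4; omega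
  · have := dvd_key hp _ (by
      intro q hq
      simp only [List.mem_cons, List.not_mem_nil, or_false] at hq
      rcases hq with rfl | rfl | rfl | rfl | rfl | rfl | rfl <;> norm_num) h2
    simp only [List.mem_cons, List.not_mem_nil, or_false] at this
    omega

theorem orderOf_phi (x : Fi23) : orderOf (R08.FiTwentyFour.facts.phi x) = orderOf x :=
  orderOf_injective _ R08.FiTwentyFour.facts.phi_injective x

/-- a self-centralising element of `Fi23` -/
theorem card_cent23 {p : ℕ} (hp : p.Prime) (hp2 : p ≠ 2)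
    (hD : ∀ R : Subgroup Fi24, Nat.card R = p → Nat.card (centralizer (R : Set Fi24)) ∣ 2 * p) {x : Fi23}
    (hx : orderOf x = p) : Nat.card (centralizer ({x} : Set Fi23)) = p := by
  have hfin := R08.FiTwentyFour.finite_Fi24
  have hfin' := R08.FiTwentyThree.finite_fi23
  set f : Fi23 →* Fi24 := R08.FiTwentyFour.facts.phi with hf
  have hinj : Function.Injective f := R08.FiTwentyFour.facts.phi_injective
  have h1 := hD (zpowers (f x)) (by rw [Nat.card_zpowers, orderOf_phi, hx])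
  rw [centralizer_zpowers] at h1
  set C := centralizer ({x} : Set Fi23) with hC
  set D := centralizer ({f x} : Set Fi24) with hDd
  have hle : C.map f ≤ D := by
    rintro _ ⟨g, hg, rfl⟩
    rw [hDd, mem_centralizer_singleton_iff, ← map_mul, ← map_mul, mem_centralizer_singleton_iff.1 hg]
  have hrange : ∀ k : Fi23, f k * Fischer.Fi24Class.gen .l = Fischer.Fi24Class.gen .l * f k ∧
      Fischer.Fi24Final.sgn (f k) = 1 := fun k => (R08.FiTwentyFour.facts.mem_range_iff _).1 ⟨k, rfl⟩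
  have hlD : Fischer.Fi24Class.gen .l ∈ D := mem_centralizer_singleton_iff.2 (hrange x).1.symm
  have hln : Fischer.Fi24Class.gen .l ∉ C.map f := by
    rintro ⟨k, -, hk⟩
    have h2 := (hrange k).2
    have h3 : Fischer.Fi24Final.sgn (Fischer.Fi24Class.gen .l) = -1 := Fischer.Fi24Final.sgn_gen _
    rw [hk, h3] at h2
    exact absurd h2 (by decide)
  have hcard : Nat.card ↥(C.map f) = Nat.card C := Nat.card_congr (C.equivMapOfInjective f hinj).symm.toEquiv
  have hd : Nat.card C ∣ Nat.card D := by rw [← hcard]; exact card_dvd_of_le hle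
  have hne : Nat.card C ≠ Nat.card D := by
    intro h
    apply hln
    rw [eq_of_le_of_card_ge hle (by rw [hcard, h])]
    exact hlD
  have hpc : p ∣ Nat.card C := by
    rw [← hx, ← Subgroup.orderOf_mk x (mem_centralizer_singleton_iff.2 rfl)]
    exact orderOf_dvd_natCard _
  obtain ⟨c, hc⟩ := hpc
  have h2 : p * c ∣ 2 * p := by rw [← hc]; exact hd.trans h1
  rw [mul_comm 2 p] at h2
  have h3 : c ∣ 2 := Nat.dvd_of_mul_dvd_mul_left hp.pos h2
  rcases (Nat.dvd_prime Nat.prime_two).1 h3 with rfl | rfl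
  · rw [hc, mul_one]
  · exfalso
    apply hne
    refine Nat.dvd_antisymm hd ?_
    rw [hc, mul_comm p 2]
    exact h1

/-- **the facts for `Fi23`** -/
theorem facts_fi23 {p : ℕ} (hp : p.Prime) (hp5 : 5 ≤ p) {G : Type u} [Group G] (h : Spor.IsoFi23 G) :
    Facts p G := by
  obtain ⟨e⟩ := h
  refine Facts.congr (G := Fi23) (H := G) e.symm ?_
  have hfin : Finite Fi23 := R08.FiTwentyThree.finite_fi23
  by_cases hd : p ∣ Nat.card Fi23
  swap
  · exact facts_of_not_dvd hd
  rw [R01.AlphaFi23.card_fi23] at hd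
  have even : ∀ x : Fi23, (Fx x).ncard ≠ 0 → Ev x := by
    intro x hne
    obtain ⟨d, hd⟩ : (Fx x).Nonempty := by
      rw [Set.nonempty_iff_ne_empty]
      intro h
      rw [h, Set.ncard_empty] at hne
      exact hne rfl
    exact ev_of_comm (R08.FiTwentyThree.sq_D hd.1) (R08.FiTwentyThree.ne_one_D hd.1) hd.2
  have mod : ∀ (q : ℕ) (_ : q.Prime) (_ : 31671 % q ≠ 0) (x : Fi23), orderOf x = q → Ev x := by
    intro q hq hm x hx
    apply even
    have h1 := fx_modEq (r := q) hq (x := x) (by rw [← hx, pow_orderOf_eq_one])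
    intro h
    rw [h] at h1
    apply hm
    have : 31671 % q = 0 % q := h1
    rwa [Nat.zero_mod] at this
  rcases cases23 hp hp5 hd with h | rfl | rfl
  · intro x hx
    left
    refine mod p hp ?_ x hx
    rcases h with rfl | rfl | rfl | rfl <;> norm_num
  · refine Facts.self (by norm_num) (by norm_num) (fun x hx => card_cent23 (by norm_num) (by norm_num)
      (fun R hR => ?_) hx) ?_
    · exact (H256.Sep.FiData.data17 hR).1
    · rw [R01.AlphaFi23.card_fi23]
      norm_num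
  · refine Facts.self (by norm_num) (by norm_num) (fun x hx => card_cent23 (by norm_num) (by norm_num)
      (fun R hR => ?_) hx) ?_
    · exact (H256.Sep.FiData.data23 hR).1
    · rw [R01.AlphaFi23.card_fi23]
      norm_num

end Fi23

/-! ### `Fi24'` -/

section Fi24

open Cfsg.Agent.R08.FiTwentyFour (L)
open Cfsg.Agent.H163.PG.FiTF (Fx fx_modEq)
open Cfsg.Agent.Fischer.Fi24Final (sgn sgn_gen)

theorem cases24 {p : ℕ} (hp : p.Prime) (hp5 : 5 ≤ p) (h : p ∣ 1255205709190661721292800) :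
    (p = 5 ∨ p = 11 ∨ p = 13) ∨ p = 7 ∨ p = 17 ∨ p = 23 ∨ p = 29 := by
  have h1 : p ∣ 6 ^ 21 * [5, 5, 7, 7, 7, 11, 13, 17, 23, 29].prod :=
    h.trans (by norm_num)
  rcases hp.dvd_mul.1 h1 with h2 | h2
  · have h3 : p ∣ 2 * 3 := hp.dvd_of_dvd_pow h2
    rcases hp.dvd_mul.1 h3 with h4 | h4
    · have := Nat.le_of_dvd (by norm_num) h4; omega
    · have := Nat.le_of_dvd (by norm_num) h4; omega
  · have := dvd_key hp _ (by
      intro q hq
      simp only [List.mem_cons, List.not_mem_nil, or_false] at hq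
      rcases hq with rfl | rfl | rfl | rfl | rfl | rfl | rfl | rfl | rfl | rfl <;> norm_num) h2
    simp only [List.mem_cons, List.not_mem_nil, or_false] at this
    omega

theorem finite24 : Finite Spor.Fi24' := by
  have := R08.FiTwentyFour.finite_Fi24
  exact inferInstanceAs (Finite ↥(commutator Fi24))

theorem ev_of_mem {x : Spor.Fi24'} {t : Fi24} (ht : t ∈ commutator Fi24) (h2 : t * t = 1) (h1 : t ≠ 1)
    (h : (x : Fi24) * t = t * x) : Ev x :=
  ev_of_comm (d := ⟨t, ht⟩) (Subtype.ext h2) (fun h => h1 (congrArg Subtype.val h)) (Subtype.ext h)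

theorem ev_of_pair {x : Spor.Fi24'} {a b : Fi24} (ha : a ∈ L) (hb : b ∈ L) (hne : a ≠ b) (hab : a * b = b * a)
    (hxa : (x : Fi24) * a = a * x) (hxb : (x : Fi24) * b = b * x) : Ev x := by
  have aa := R08.FiTwentyFour.sq ha
  have bb := R08.FiTwentyFour.sq hb
  refine ev_of_mem (R08.FiTwentyFour.even ha hb) ?_ ?_ ?_
  · calc a * b * (a * b) = a * (b * a) * b := by group
      _ = (a * a) * (b * b) := by rw [← hab]; group
      _ = 1 := by rw [aa, bb, one_mul]
  · intro h
    exact hne ((eq_inv_of_mul_eq_one_right h).trans (eq_inv_of_mul_eq_one_right aa).symm).symm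
  · calc (x : Fi24) * (a * b) = (x * a) * b := by group
      _ = a * (x * b) := by rw [hxa]; group
      _ = a * b * x := by rw [hxb]; group

theorem ev_of_fix {p : ℕ} (hp : p.Prime) (hm : 31671 % p ≠ 0) {x : Spor.Fi24'} (hx : orderOf x = p) {a : Fi24}
    (ha : a ∈ L) (hxa : (x : Fi24) * a = a * x) : Ev x := by
  have hfin := R08.FiTwentyFour.finite_Fi24
  have hxp : (x : Fi24) ^ p = 1 := by
    rw [← hx]
    exact congrArg Subtype.val (pow_orderOf_eq_one x)
  have h1 := fix_modEq hp hxp (S := {c | c ∈ L ∧ c ≠ a ∧ Commute c a}) (by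
    rintro s ⟨h1, h2, h3⟩
    have hc : (x : Fi24) * a * (x : Fi24)⁻¹ = a := by rw [hxa, mul_inv_cancel_right]
    refine ⟨R08.FiTwentyFour.conj h1 _, fun h => h2 ?_, ?_⟩
    · rw [← hc] at h
      exact mul_left_cancel (mul_right_cancel h)
    · have h4 : Commute ((x : Fi24) * s * (x : Fi24)⁻¹) ((x : Fi24) * a * (x : Fi24)⁻¹) :=
        (LThreeFi22.conj_comm_iff _ _ _).2 h3
      rwa [hc] at h4)
  rw [R08.FiTwentyFour.ncard_commuting ha] at h1
  have h2 : {s | s ∈ {c | c ∈ L ∧ c ≠ a ∧ Commute c a} ∧ (x : Fi24) * s = s * x}.Nonempty := by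
    rw [Set.nonempty_iff_ne_empty]
    intro h
    rw [h, Set.ncard_empty] at h1
    apply hm
    have : 31671 % p = 0 % p := h1
    rwa [Nat.zero_mod] at this
  obtain ⟨b, ⟨hb, hba, hab⟩, hxb⟩ := h2
  exact ev_of_pair ha hb (Ne.symm hba) hab.symm hxa hxb

theorem fx_ne {p : ℕ} (hp : p.Prime) (hm : 306936 % p ≠ 0) {x : Fi24} (hx : orderOf x = p) :
    ∃ a ∈ L, x * a = a * x := by
  have h1 := fx_modEq (r := p) hp (x := x) (by rw [← hx, pow_orderOf_eq_one])
  have h2 : (Fx x).Nonempty := by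
    rw [Set.nonempty_iff_ne_empty]
    intro h
    rw [h, Set.ncard_empty] at h1
    apply hm
    have : 306936 % p = 0 % p := h1
    rwa [Nat.zero_mod] at this
  obtain ⟨a, ha⟩ := h2
  exact ⟨a, ha.1, ha.2⟩

theorem even24 {p : ℕ} (hp : p.Prime) (hm : 31671 % p ≠ 0) (hm' : 306936 % p ≠ 0) : Facts p Spor.Fi24' := by
  intro x hx
  left
  obtain ⟨a, ha, hxa⟩ := fx_ne hp hm' (x := (x : Fi24)) (by rw [Subgroup.orderOf_coe]; exact hx)
  exact ev_of_fix hp hm hx ha hxa

/-- a self-centralising element of `Fi24'` -/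
theorem card_cent24 {p : ℕ} (hp : p.Prime) (hm' : 306936 % p ≠ 0)
    (hD : ∀ R : Subgroup Fi24, Nat.card R = p → Nat.card (centralizer (R : Set Fi24)) ∣ 2 * p) {x : Spor.Fi24'}
    (hx : orderOf x = p) : Nat.card (centralizer ({x} : Set Spor.Fi24')) = p := by
  have hfin := R08.FiTwentyFour.finite_Fi24
  have hfin' := finite24
  have hxo : orderOf (x : Fi24) = p := by rw [Subgroup.orderOf_coe]; exact hx
  set f : Spor.Fi24' →* Fi24 := (commutator Fi24).subtype with hf
  have hinj : Function.Injective f := Subtype.val_injective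
  have h1 := hD (zpowers (f x)) (by rw [Nat.card_zpowers]; exact hxo)
  rw [centralizer_zpowers] at h1
  set C := centralizer ({x} : Set Spor.Fi24') with hC
  set D := centralizer ({f x} : Set Fi24) with hDd
  have hle : C.map f ≤ D := by
    rintro _ ⟨g, hg, rfl⟩
    rw [hDd, mem_centralizer_singleton_iff, ← map_mul, ← map_mul, mem_centralizer_singleton_iff.1 hg]
  obtain ⟨a, ha, hxa⟩ := fx_ne hp hm' hxo
  have hlD : a ∈ D := mem_centralizer_singleton_iff.2 hxa.symm
  have hln : a ∉ C.map f := by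
    rintro ⟨k, -, hk⟩
    apply R08.FiTwentyFour.odd ha
    rw [← hk]
    exact k.2
  have hcard : Nat.card ↥(C.map f) = Nat.card C := Nat.card_congr (C.equivMapOfInjective f hinj).symm.toEquiv
  have hd : Nat.card C ∣ Nat.card D := by rw [← hcard]; exact card_dvd_of_le hle
  have hne : Nat.card C ≠ Nat.card D := by
    intro h
    apply hln
    rw [eq_of_le_of_card_ge hle (by rw [hcard, h])]
    exact hlD
  have hpc : p ∣ Nat.card C := by
    rw [← hx, ← Subgroup.orderOf_mk x (mem_centralizer_singleton_iff.2 rfl)]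
    exact orderOf_dvd_natCard _
  obtain ⟨c, hc⟩ := hpc
  have h2 : p * c ∣ 2 * p := by rw [← hc]; exact hd.trans h1
  rw [mul_comm 2 p] at h2
  have h3 : c ∣ 2 := Nat.dvd_of_mul_dvd_mul_left hp.pos h2
  rcases (Nat.dvd_prime Nat.prime_two).1 h3 with rfl | rfl
  · rw [hc, mul_one]
  · exfalso
    apply hne
    refine Nat.dvd_antisymm hd ?_
    rw [hc, mul_comm p 2]
    exact h1

theorem card_cent29 {x : Spor.Fi24'} (hx : orderOf x = 29) : Nat.card (centralizer ({x} : Set Spor.Fi24')) = 29 := by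
  have hfin := R08.FiTwentyFour.finite_Fi24
  have hfin' := finite24
  have hxo : orderOf (x : Fi24) = 29 := by rw [Subgroup.orderOf_coe]; exact hx
  set f : Spor.Fi24' →* Fi24 := (commutator Fi24).subtype with hf
  have hinj : Function.Injective f := Subtype.val_injective
  have h1 := (H256.Sep.FiData.data29 (R := zpowers (f x)) (by rw [Nat.card_zpowers]; exact hxo)).1
  rw [centralizer_zpowers] at h1
  set C := centralizer ({x} : Set Spor.Fi24') with hC
  have hle : C.map f ≤ centralizer ({f x} : Set Fi24) := by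
    rintro _ ⟨g, hg, rfl⟩
    rw [mem_centralizer_singleton_iff, ← map_mul, ← map_mul, mem_centralizer_singleton_iff.1 hg]
  have hcard : Nat.card ↥(C.map f) = Nat.card C := Nat.card_congr (C.equivMapOfInjective f hinj).symm.toEquiv
  have hd : Nat.card C ∣ 29 := by rw [← hcard]; exact (card_dvd_of_le hle).trans h1
  refine Nat.dvd_antisymm hd ?_
  have h29 : orderOf (⟨x, mem_centralizer_singleton_iff.2 rfl⟩ : ↥C) = 29 := by rw [Subgroup.orderOf_mk, hx]
  rw [← h29]
  exact orderOf_dvd_natCard _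

/-! #### order 7 -/

section Seven

open Cfsg.Agent.H842.SevenSyl Cfsg.Agent.H842.Seven Cfsg.Agent.LThreeFi24.FiveConj
open Cfsg.Agent.LThreeFi24.SNine
open Cfsg.Agent.Fischer.Fi24RepDef Cfsg.Agent.Fischer.Fi24Rep
open Cfsg.Agent.KFacts.FiTF.Pts (word_reverse)
open Cfsg.Agent.Fischer.Fi24Spider (word_append word_cons word_nil)
open Equiv

theorem sgn_conj_word (w : List Cfsg.Spor.Fi24.Gen) (y : Cfsg.Spor.Fi24.Gen) :
    sgn (word (w ++ y :: w.reverse)) = -1 := by
  rw [word_append, word_cons, word_reverse, map_mul, map_mul, map_inv, sgn_gen]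
  rw [mul_comm (-1 : ℤˣ), mul_inv_cancel_left]

theorem sgn_t6 : sgn t6 = 1 := by
  unfold t6
  rw [map_mul, s7_word, sgn_conj_word, t0_eq]
  simp only [map_mul, sgn_gen]
  decide

theorem t6_mem : t6 ^ 3 ∈ commutator Fi24 := by
  rw [← Fischer.Fi24Final.ker_sgn]
  exact pow_mem (MonoidHom.mem_ker.2 sgn_t6) 3

theorem t6_cube_ne : t6 ^ 3 ≠ 1 := by
  intro h
  have h1 : t6 ^ 3 * y7 * (t6 ^ 3)⁻¹ = y7 ^ 27 := by
    have h2 := t6_y7
    have h3 : ∀ k : ℕ, t6 * y7 ^ k * t6⁻¹ = y7 ^ (3 * k) := by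
      intro k
      rw [← conj_pow, h2, ← pow_mul]
    calc t6 ^ 3 * y7 * (t6 ^ 3)⁻¹ = t6 * (t6 * (t6 * y7 ^ 1 * t6⁻¹) * t6⁻¹) * t6⁻¹ := by
          rw [pow_one, pow_succ, pow_succ, pow_one]; group
      _ = y7 ^ 27 := by rw [h3, h3, h3]
  rw [h, one_mul, inv_one, mul_one] at h1
  have h2 : y7 ^ 26 = 1 := by
    have h3 : y7 * y7 ^ 26 = y7 * 1 := by rw [← pow_succ', mul_one]; exact h1.symm
    exact mul_left_cancel h3
  have h3 : y7 ^ 5 = 1 := by
    have : y7 ^ 26 = (y7 ^ 7) ^ 3 * y7 ^ 5 := by rw [← pow_mul, ← pow_add]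
    rw [this, y7_pow, one_pow, one_mul] at h2
    exact h2
  apply y7_ne
  have h4 : y7 = (y7 ^ 5) ^ 3 * ((y7 ^ 7) ^ 2)⁻¹ := by
    rw [← pow_mul, ← pow_mul]
    show y7 = y7 ^ 15 * (y7 ^ 14)⁻¹
    rw [pow_succ' y7 14]
    group
  rw [h4, h3, y7_pow]
  simp

theorem t6_c : c * t6 ^ 3 = t6 ^ 3 * c := by
  rw [c_eq]
  exact ((t6_Psi _).symm.pow_right 3).eq

/-- an element of order 7 commutes with an involution -/
theorem seven24 {x : Spor.Fi24'} (hx : orderOf x = 7) : Ev x := by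
  have hxo : orderOf (x : Fi24) = 7 := by rw [Subgroup.orderOf_coe]; exact hx
  obtain ⟨g, hg | hg⟩ := cases7 (X := zpowers (x : Fi24)) (by rw [Nat.card_zpowers]; exact hxo)
  · -- a fixed transposition
    have h1 : g * (x : Fi24) * g⁻¹ ∈ zpowers y7 := by
      rw [← hg]
      exact ⟨x, mem_zpowers _, rfl⟩
    have h2 : (g * (x : Fi24) * g⁻¹) * gen .l = gen .l * (g * (x : Fi24) * g⁻¹) := by
      obtain ⟨i, hi⟩ := h1
      have hi : y7 ^ i = g * (x : Fi24) * g⁻¹ := hi
      rw [← hi]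
      have h3 : Commute y7 (gen .l) := y7_t 0
      exact (h3.zpow_left i).eq
    refine ev_of_fix (by norm_num) (by norm_num) hx (a := g⁻¹ * gen .l * g⁻¹⁻¹)
      (R08.FiTwentyFour.conj (R08.FiTwentyFour.gen_mem_L .l) g⁻¹) ?_
    calc (x : Fi24) * (g⁻¹ * gen .l * g⁻¹⁻¹) = g⁻¹ * ((g * (x : Fi24) * g⁻¹) * gen .l) * g := by group
      _ = g⁻¹ * (gen .l * (g * (x : Fi24) * g⁻¹)) * g := by rw [h2]
      _ = g⁻¹ * gen .l * g⁻¹⁻¹ * x := by group
  · have h1 : g * (x : Fi24) * g⁻¹ ∈ zpowers c := by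
      rw [← hg]
      exact ⟨x, mem_zpowers _, rfl⟩
    have h2 : (g * (x : Fi24) * g⁻¹) * t6 ^ 3 = t6 ^ 3 * (g * (x : Fi24) * g⁻¹) := by
      obtain ⟨i, hi⟩ := h1
      have hi : c ^ i = g * (x : Fi24) * g⁻¹ := hi
      rw [← hi]
      exact ((show Commute c (t6 ^ 3) from t6_c).zpow_left i).eq
    have hn : (commutator Fi24).Normal := inferInstance
    refine ev_of_mem (t := g⁻¹ * t6 ^ 3 * g⁻¹⁻¹) (hn.conj_mem _ t6_mem g⁻¹) ?_ ?_ ?_
    · calc g⁻¹ * t6 ^ 3 * g⁻¹⁻¹ * (g⁻¹ * t6 ^ 3 * g⁻¹⁻¹) = g⁻¹ * (t6 ^ 3 * t6 ^ 3) * g := by group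
        _ = 1 := by
          rw [← pow_add]
          show g⁻¹ * t6 ^ 6 * g = 1
          rw [t6_pow]
          group
    · intro h
      apply t6_cube_ne
      calc t6 ^ 3 = g * (g⁻¹ * t6 ^ 3 * g⁻¹⁻¹) * g⁻¹ := by group
        _ = 1 := by rw [h]; group
    · calc (x : Fi24) * (g⁻¹ * t6 ^ 3 * g⁻¹⁻¹) = g⁻¹ * ((g * (x : Fi24) * g⁻¹) * t6 ^ 3) * g := by group
        _ = g⁻¹ * (t6 ^ 3 * (g * (x : Fi24) * g⁻¹)) * g := by rw [h2]
        _ = g⁻¹ * t6 ^ 3 * g⁻¹⁻¹ * x := by group

end Seven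

/-- **the facts for `Fi24'`** -/
theorem facts_fi24 {p : ℕ} (hp : p.Prime) (hp5 : 5 ≤ p) {G : Type u} [Group G] (h : Spor.IsoFi24' G) :
    Facts p G := by
  obtain ⟨e⟩ := h
  refine Facts.congr (G := Spor.Fi24') (H := G) e.symm ?_
  have hfin : Finite Spor.Fi24' := finite24
  have hcard : Nat.card Spor.Fi24' = 1255205709190661721292800 := R08.FiTwentyFour.card_commutator
  by_cases hd : p ∣ Nat.card Spor.Fi24'
  swap
  · exact facts_of_not_dvd hd
  rw [hcard] at hd
  rcases cases24 hp hp5 hd with h | rfl | rfl | rfl | rfl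
  · rcases h with rfl | rfl | rfl
    · exact even24 hp (by norm_num) (by norm_num)
    · exact even24 hp (by norm_num) (by norm_num)
    · exact even24 hp (by norm_num) (by norm_num)
  · exact fun x hx => Or.inl (seven24 hx)
  · refine Facts.self (by norm_num) (by norm_num) (fun x hx => card_cent24 (by norm_num) (by norm_num)
      (fun R hR => (H256.Sep.FiData.data17 hR).1) hx) ?_
    rw [hcard]
    norm_num
  · refine Facts.self (by norm_num) (by norm_num) (fun x hx => card_cent24 (by norm_num) (by norm_num)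
      (fun R hR => (H256.Sep.FiData.data23 hR).1) hx) ?_
    rw [hcard]
    norm_num
  · refine Facts.self (by norm_num) (by norm_num) (fun x hx => card_cent29 hx) ?_
    rw [hcard]
    norm_num

end Fi24

end Cfsg.Agent.H968.Tor
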