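import Cfsg.Agent.H33.Tor.Facts
import Cfsg.Agent.H713.Spor.Fi22

/-!
# S3235: the facts for `Fi22` (helper968, task 2771)

* `facts_fi22` : for every prime `p ≥ 5`.
-/

set_option autoImplicit false

namespace Cfsg.Agent.H968.Tor

open Cfsg Subgroup Cfsg.Agent.H33.Tor Cfsg.Agent.LThreeFi22

universe u

theorem ev_of_comm {G : Type u} [Group G] {x d : G} (hd : d * d = 1) (hd1 : d ≠ 1) (h : x * d = d * x) : Ev x :=
  ⟨d, orderOf_eq_prime (by rw [pow_two, hd]) hd1, h.symm⟩

theorem facts_of_not_dvd {p : ℕ} {G : Type u} [Group G] [Finite G] (h : ¬ p ∣ Nat.card G) : Facts p G :=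
  fun x hx => absurd (hx ▸ orderOf_dvd_natCard x) h

theorem cases22 {p : ℕ} (hp : p.Prime) (hp5 : 5 ≤ p) (h : p ∣ 64561751654400) : p = 5 ∨ p = 7 ∨ p = 11 ∨ p = 13 := by
  rw [show (64561751654400 : ℕ) = 2 ^ 17 * 3 ^ 9 * 5 ^ 2 * 7 * 11 * 13 by norm_num] at h
  have key : ∀ q : ℕ, q.Prime → p ∣ q → p = q := fun q hq hd => (Nat.prime_dvd_prime_iff_eq hp hq).1 hd
  rcases hp.dvd_mul.1 h with h | h
  · rcases hp.dvd_mul.1 h with h | h
    · rcases hp.dvd_mul.1 h with h | h
      · rcases hp.dvd_mul.1 h with h | h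
        · rcases hp.dvd_mul.1 h with h | h
          · have := key 2 (by norm_num) (hp.dvd_of_dvd_pow h); omega
          · have := key 3 (by norm_num) (hp.dvd_of_dvd_pow h); omega
        · exact Or.inl (key 5 (by norm_num) (hp.dvd_of_dvd_pow h))
      · exact Or.inr (Or.inl (key 7 (by norm_num) h))
    · exact Or.inr (Or.inr (Or.inl (key 11 (by norm_num) h)))
  · exact Or.inr (Or.inr (Or.inr (key 13 (by norm_num) h)))

/-- **the facts for `Fi22`** -/
theorem facts_fi22 {p : ℕ} (hp : p.Prime) (hp5 : 5 ≤ p) {G : Type u} [Group G] (h : Spor.IsoFi22 G) :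
    Facts p G := by
  obtain ⟨e⟩ := h
  have C := Inst.ctx e
  have hfin := C.finite
  by_cases hd : p ∣ Nat.card G
  swap
  · exact facts_of_not_dvd hd
  rw [C.card] at hd
  have even : ∀ x : G, (∃ d, d ∈ Fx (Cfsg.Agent.KFacts.FiTT.TK e) x) → Ev x := by
    rintro x ⟨d, hd⟩
    exact ev_of_comm (C.sq d hd.1) (C.ne1 d hd.1) hd.2
  rcases cases22 hp hp5 hd with rfl | rfl | rfl | rfl
  · intro x hx
    left
    obtain ⟨t, ht, hxt⟩ := C.ex5 x (by rw [← hx, pow_orderOf_eq_one]) (by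
      rintro rfl
      rw [orderOf_one] at hx
      norm_num at hx)
    exact ev_of_comm (C.sq t ht) (C.ne1 t ht) hxt
  · intro x hx
    left
    apply even
    have h1 := C.fx_mod (by norm_num : Nat.Prime 7) (y := x) (by rw [← hx, pow_orderOf_eq_one])
    exact C.exists_mem (y := x) (by intro h; rw [h] at h1; revert h1; decide)
  · intro x hx
    left
    exact even x (Cfsg.Agent.H713.Spor.Fi22.exists_eleven C (by rw [← hx, pow_orderOf_eq_one]))
  · refine Facts.self (by norm_num) (by norm_num) (fun x hx => Cfsg.Agent.H713.Spor.Fi22.cent_13 e hx) ?_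
    rw [C.card]
    norm_num

end Cfsg.Agent.H968.Tor
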