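import Cfsg.Agent.H33.Tor.Kill
import Cfsg.Agent.J2.HundredGens
import Cfsg.Agent.J2Sylow.SporSylow
import Cfsg.Agent.S0276

/-!
# S3235: no subgroup of order 5 of `J2` has `Pr 5` (helper968, task 2773)

`J2` acts on 100 points. For each of the six subgroups `⟨c⟩` of order 5 of a Sylow 5-subgroup an element `g` with
`c (g c g⁻¹)` of order 7 is exhibited; `SL₂(5)`, `PSL₂(5)` and `PSL₂(25)`, `SL₂(25)` have no elements of order 7.
-/

set_option autoImplicit false
set_option maxRecDepth 100000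

namespace Cfsg.Agent.H968.Tor.JTwo

open Cfsg Subgroup Cfsg.Agent.H33.Tor Cfsg.Agent.H103.Tor
open Cfsg.Agent.J2.HundredGens Cfsg.Agent.SporadicA.J2Hundred

universe u

/-! ### General lemmas -/

theorem eq_one_of_pow {X : Type*} [Group X] {c : X} (h5 : c ^ 5 = 1) (h7 : c ^ 7 = 1) : c = 1 := by
  calc c = (c ^ 5) ^ 3 * ((c ^ 7) ^ 2)⁻¹ := by
        rw [← pow_mul, ← pow_mul, show 5 * 3 = 7 * 2 + 1 from rfl, pow_succ']
        group
    _ = 1 := by rw [h5, h7]; simp

theorem key {X : Type*} [Group X] [Finite X] (h125 : ¬ 125 ∣ Nat.card X) {a g : X}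
    (h7 : (a * (g * a * g⁻¹)) ^ 7 = 1) (hne : a * (g * a * g⁻¹) ≠ 1) : ¬ Pr 5 (zpowers a) := by
  intro hP
  have ha5 : a ^ 5 = 1 := by
    have h := hP.card
    rw [Nat.card_zpowers] at h
    rw [← h, pow_orderOf_eq_one]
  have hc : ¬ Cm (zpowers a) (cj g (zpowers a)) := by
    intro hc
    have h1 : Commute a (g * a * g⁻¹) := hc a (mem_zpowers a) _ (conj_mem_cj (mem_zpowers a))
    apply hne
    refine eq_one_of_pow ?_ h7
    rw [h1.mul_pow, ha5, conj_pow, ha5, mul_one, mul_inv_cancel, one_mul]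
  obtain ⟨K, _, _, _, m, φ, x, y, hm, hK, hφ, hX, -⟩ := hP.exists_pair (by norm_num) le_rfl hc
  have hfin : Finite (Matrix.SpecialLinearGroup (Fin 2) K) := inferInstance
  have hcard : Nat.card (Matrix.SpecialLinearGroup (Fin 2) K) = 5 ^ m * ((5 ^ m) ^ 2 - 1) := by
    rw [S0276.card_sl_two (F := K) hK]
  have h1 : Nat.card φ.ker * Nat.card φ.range = Nat.card (Matrix.SpecialLinearGroup (Fin 2) K) := by
    rw [← Subgroup.index_ker, Subgroup.card_mul_index]
  have hk2 : Nat.card φ.ker ≤ 2 := by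
    have h2 : (φ.ker : Set (Matrix.SpecialLinearGroup (Fin 2) K)) ⊆ {1, -1} := by
      intro z hz
      exact hφ z hz
    have h3 := Set.ncard_le_ncard h2 (Set.toFinite _)
    have h4 := Set.ncard_insert_le (1 : Matrix.SpecialLinearGroup (Fin 2) K) {-1}
    rw [Set.ncard_singleton] at h4
    exact h3.trans h4
  have hk0 : 0 < Nat.card φ.ker := Nat.card_pos
  have hcop : Nat.Coprime (5 ^ m) (Nat.card φ.ker) := by
    apply Nat.Coprime.pow_left
    have : Nat.card φ.ker = 1 ∨ Nat.card φ.ker = 2 := by omega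
    rcases this with h | h <;> rw [h] <;> norm_num
  have h5m : 5 ^ m ∣ Nat.card X := by
    have h2 : 5 ^ m ∣ Nat.card φ.ker * Nat.card φ.range := by
      rw [h1, hcard]
      exact dvd_mul_right _ _
    exact (hcop.dvd_of_dvd_mul_left h2).trans (Subgroup.card_subgroup_dvd_card _)
  have hm2 : m < 3 := by
    by_contra hcon
    push Not at hcon
    exact h125 ((pow_dvd_pow 5 hcon).trans h5m)
  -- the element of order 7
  have hmem : a * (g * a * g⁻¹) ∈ φ.range := by
    rw [hX]
    exact mul_mem (mem_sup_left (mem_zpowers a)) (mem_sup_right (conj_mem_cj (mem_zpowers a)))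
  have ho : orderOf (a * (g * a * g⁻¹)) = 7 := by
    have : Fact (Nat.Prime 7) := ⟨by norm_num⟩
    exact orderOf_eq_prime h7 hne
  have h7d : 7 ∣ Nat.card (Matrix.SpecialLinearGroup (Fin 2) K) := by
    rw [← h1]
    refine Dvd.dvd.mul_left ?_ _
    rw [← ho, ← Subgroup.orderOf_mk _ hmem]
    exact orderOf_dvd_natCard _
  rw [hcard] at h7d
  have : m = 1 ∨ m = 2 := by omega
  rcases this with rfl | rfl
  · norm_num at h7d
  · norm_num at h7d

theorem card_sup_dvd {X : Type*} [Group X] [Finite X] {A B : Subgroup X} (h : ∀ a ∈ A, ∀ b ∈ B, a * b = b * a) :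
    Nat.card ↥(A ⊔ B) ∣ Nat.card A * Nat.card B ∧ ∀ x ∈ A ⊔ B, ∃ a ∈ A, ∃ b ∈ B, x = a * b := by
  let f : A × B →* X := MonoidHom.noncommCoprod A.subtype B.subtype (fun a b => h a a.2 b b.2)
  have h1 : f.range = A ⊔ B := by
    have h2 := MonoidHom.noncommCoprod_range A.subtype B.subtype (fun a b => h a a.2 b b.2)
    rw [A.range_subtype, B.range_subtype] at h2
    exact h2
  refine ⟨?_, ?_⟩
  · rw [← h1, ← Nat.card_prod]
    exact card_range_dvd f
  · intro x hx
    rw [← h1] at hx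
    obtain ⟨⟨a, b⟩, rfl⟩ := hx
    exact ⟨a, a.2, b, b.2, rfl⟩

/-- the reduction to six subgroups -/
theorem kill_of_six {X : Type*} [Group X] [Finite X] (h25 : (Nat.card X).factorization 5 = 2) {x y : X}
    (x5 : x ^ 5 = 1) (y5 : y ^ 5 = 1) (xy : x * y = y * x) (x1 : x ≠ 1) (hy : y ∉ zpowers x)
    (hky : ¬ Pr 5 (zpowers y)) (hkx : ∀ r : ℕ, r < 5 → ¬ Pr 5 (zpowers (x * y ^ r))) : Kill 5 X := by
  have f5 : Fact (Nat.Prime 5) := ⟨by norm_num⟩
  have hxo : orderOf x = 5 := orderOf_eq_prime x5 x1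
  have y1 : y ≠ 1 := by
    rintro rfl
    exact hy (one_mem _)
  have hyo : orderOf y = 5 := orderOf_eq_prime y5 y1
  obtain ⟨hd, hmem⟩ := card_sup_dvd (A := zpowers x) (B := zpowers y) (by
    rintro _ ⟨i, rfl⟩ _ ⟨j, rfl⟩
    exact ((show Commute x y from xy).zpow_zpow i j).eq)
  rw [Nat.card_zpowers, Nat.card_zpowers, hxo, hyo] at hd
  have h5 : 5 ∣ Nat.card ↥(zpowers x ⊔ zpowers y) := by
    rw [← hxo, ← Nat.card_zpowers]
    exact card_dvd_of_le le_sup_left
  have hne : Nat.card ↥(zpowers x ⊔ zpowers y) ≠ 5 := by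
    intro h
    apply hy
    have h2 : zpowers x = zpowers x ⊔ zpowers y := eq_of_le_of_card_ge le_sup_left (by
      rw [h, Nat.card_zpowers, hxo])
    rw [h2]
    exact mem_sup_right (mem_zpowers y)
  have h25' : Nat.card ↥(zpowers x ⊔ zpowers y) = 5 ^ 2 := by
    obtain ⟨k, hk⟩ := h5
    rw [hk] at hd hne ⊢
    have h3 : k ∣ 5 := Nat.dvd_of_mul_dvd_mul_left (by norm_num) hd
    rcases (Nat.dvd_prime (by norm_num)).1 h3 with rfl | rfl
    · exact absurd rfl hne
    · norm_num
  let P : Sylow 5 X := Sylow.ofCard (zpowers x ⊔ zpowers y) (by rw [h25', h25])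
  have hP : (P : Subgroup X) = zpowers x ⊔ zpowers y := rfl
  intro A hA
  have hAp : IsPGroup 5 A := IsPGroup.of_card (n := 1) (by rw [hA.card, pow_one])
  obtain ⟨Q, hQ⟩ := hAp.exists_le_sylow
  obtain ⟨g, hg⟩ := MulAction.exists_smul_eq X Q P
  have h3 : cj g A ≤ zpowers x ⊔ zpowers y := by
    rw [← hP, ← hg]
    exact Subgroup.map_mono hQ
  have hA' := hA.conj g
  obtain ⟨a, haA, hao, hAa⟩ := Cfsg.Agent.H333.SLTwoLine.exists_gen (by norm_num) (cj g A) hA'.card
  obtain ⟨_, ⟨i, rfl⟩, _, ⟨j, rfl⟩, ha⟩ := hmem a (h3 haA)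
  have ha : a = x ^ i * y ^ j := ha
  have a5 : a ^ 5 = 1 := by rw [← hao, pow_orderOf_eq_one]
  -- a nontrivial power generates the same subgroup
  have gen : ∀ c : X, c ∈ zpowers a → c ≠ 1 → zpowers c = zpowers a := by
    intro c hc hc1
    apply eq_of_le_of_card_ge
    · rw [zpowers_le]; exact hc
    · have hc5 : c ^ 5 = 1 := by
        obtain ⟨k, rfl⟩ := hc
        rw [← zpow_natCast, ← zpow_mul, mul_comm, zpow_mul, zpow_natCast, a5, one_zpow]
      rw [Nat.card_zpowers, Nat.card_zpowers, orderOf_eq_prime hc5 hc1, hao]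
  have zx : ∀ k : ℤ, x ^ (5 * k) = 1 := by
    intro k
    rw [zpow_mul, show (5 : ℤ) = ((5 : ℕ) : ℤ) from rfl, zpow_natCast, x5, one_zpow]
  have zy : ∀ k : ℤ, y ^ (5 * k) = 1 := by
    intro k
    rw [zpow_mul, show (5 : ℤ) = ((5 : ℕ) : ℤ) from rfl, zpow_natCast, y5, one_zpow]
  have cxy : Commute x y := xy
  by_cases h0 : i % 5 = 0
  · -- `a` is a power of `y`
    apply hky
    have h1 : a = y ^ j := by
      obtain ⟨k, hk⟩ := Int.dvd_of_emod_eq_zero h0
      rw [ha, hk, zx, one_mul]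
    have ha1 : a ≠ 1 := by
      rintro rfl
      rw [orderOf_one] at hao
      norm_num at hao
    have h2 : zpowers a = zpowers y := by
      apply eq_of_le_of_card_ge
      · rw [zpowers_le, h1]; exact zpow_mem (mem_zpowers y) j
      · rw [Nat.card_zpowers, Nat.card_zpowers, hao, hyo]
    rw [← h2, ← hAa]
    exact hA'
  · obtain ⟨k, hk⟩ : ∃ k : ℤ, (i * k) % 5 = 1 := by
      have : i % 5 = 1 ∨ i % 5 = 2 ∨ i % 5 = 3 ∨ i % 5 = 4 := by omega
      rcases this with h | h | h | h
      · exact ⟨1, by omega⟩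
      · exact ⟨3, by omega⟩
      · exact ⟨2, by omega⟩
      · exact ⟨4, by omega⟩
    have h1 : a ^ k = x * y ^ ((j * k) % 5).toNat := by
      rw [ha, (cxy.zpow_zpow i j).mul_zpow, ← zpow_mul, ← zpow_mul]
      have e1 : i * k = 5 * (i * k / 5) + 1 := by omega
      have e2 : j * k = 5 * (j * k / 5) + (((j * k) % 5).toNat : ℤ) := by omega
      have e3 : x ^ (i * k) = x := by rw [e1, zpow_add, zx, one_mul, zpow_one]
      have e4 : y ^ (j * k) = y ^ ((j * k) % 5).toNat := by
        conv_lhs => rw [e2]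
        rw [zpow_add, zy, one_mul, zpow_natCast]
      rw [e3, e4]
    have h2 : a ^ k ≠ 1 := by
      intro h
      rw [h] at h1
      apply hy
      -- `x = y ^ -r`
      have h3 : x⁻¹ = y ^ ((j * k) % 5).toNat := inv_eq_of_mul_eq_one_right h1.symm
      have h4 : zpowers x = zpowers y := by
        apply eq_of_le_of_card_ge
        · rw [zpowers_le, ← inv_inv x, h3]
          exact inv_mem (pow_mem (mem_zpowers y) _)
        · rw [Nat.card_zpowers, Nat.card_zpowers, hxo, hyo]
      rw [h4]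
      exact mem_zpowers y
    have h3 := gen _ (zpow_mem (mem_zpowers a) k) h2
    apply hkx ((j * k) % 5).toNat (by omega)
    rw [← h1, h3, ← hAa]
    exact hA'

/-! ### Words in `J2` -/

/-- the element of a word -/
noncomputable def el (w : List ℕ) : ↥G := ⟨pw w, pw_mem w⟩

theorem el_mul (v w : List ℕ) : el v * el w = el (v ++ w) := Subtype.ext (pw_mul v w)

theorem el_inv (v : List ℕ) : (el v)⁻¹ = el v.reverse := Subtype.ext (pw_inv v)

theorem el_nil : el [] = 1 := rfl

theorem el_eq {v w : List ℕ} (h : chk v w = true) : el v = el w := Subtype.ext (pw_eq h)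

theorem el_ne {v w : List ℕ} (i : Fin 100) (h : Nat.beq (run v i) (run w i) = false) : el v ≠ el w := by
  intro h1
  have h2 : pw v = pw w := congrArg Subtype.val h1
  have h3 : run v i = run w i := by rw [← pw_val, ← pw_val, h2]
  rw [h3] at h
  have h4 : Nat.beq (run w i) (run w i) = true := Nat.beq_refl _
  rw [h4] at h
  exact absurd h (by decide)

/-- the word of a power -/
def rp (w : List ℕ) : ℕ → List ℕ
  | 0 => []
  | n + 1 => rp w n ++ w

theorem el_pow (w : List ℕ) (n : ℕ) : el w ^ n = el (rp w n) := by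
  induction n with
  | zero => rfl
  | succ n ih => rw [pow_succ, ih, el_mul]; rfl

def wx : List ℕ := [1, 2, 0]
def wy : List ℕ := [4, 3, 2, 3, 1, 2, 3, 1]

/-- the word of `c (g c g⁻¹)` -/
def cw (c g : List ℕ) : List ℕ := c ++ ((g ++ c) ++ g.reverse)

theorem el_cw (c g : List ℕ) : el c * (el g * el c * (el g)⁻¹) = el (cw c g) := by
  rw [el_inv, el_mul, el_mul, el_mul]; rfl

theorem not_dvd : ¬ 125 ∣ Nat.card ↥G := by
  rw [card_G]; norm_num

theorem kill {c g : List ℕ} (h : chk (rp (cw c g) 7) [] = true) (i : Fin 100)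
    (hi : Nat.beq (run (cw c g) i) (run [] i) = false) : ¬ Pr 5 (zpowers (el c)) := by
  have hfin : Finite ↥G := Nat.finite_of_card_ne_zero (by rw [card_G]; norm_num)
  refine key not_dvd (g := el g) ?_ ?_
  · rw [el_cw, el_pow, el_eq h, el_nil]
  · rw [el_cw]
    exact el_ne i hi

theorem k10 : ¬ Pr 5 (zpowers (el wx)) := kill (g := [3, 4, 2, 3, 2]) (by decide +kernel) 1 (by decide +kernel)
theorem k01 : ¬ Pr 5 (zpowers (el wy)) := kill (g := [3, 0, 1, 0]) (by decide +kernel) 0 (by decide +kernel)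
theorem k11 : ¬ Pr 5 (zpowers (el (wx ++ rp wy 1))) :=
  kill (g := [2, 3, 1, 2]) (by decide +kernel) 0 (by decide +kernel)
theorem k12 : ¬ Pr 5 (zpowers (el (wx ++ rp wy 2))) :=
  kill (g := [3, 4, 2, 3, 0]) (by decide +kernel) 0 (by decide +kernel)
theorem k13 : ¬ Pr 5 (zpowers (el (wx ++ rp wy 3))) := kill (g := [2]) (by decide +kernel) 0 (by decide +kernel)
theorem k14 : ¬ Pr 5 (zpowers (el (wx ++ rp wy 4))) := kill (g := [0]) (by decide +kernel) 0 (by decide +kernel)

theorem x5 : el wx ^ 5 = 1 := by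
  rw [el_pow]; exact el_eq (v := rp wx 5) (w := []) (by decide +kernel)
theorem y5 : el wy ^ 5 = 1 := by
  rw [el_pow]; exact el_eq (v := rp wy 5) (w := []) (by decide +kernel)
theorem xy : el wx * el wy = el wy * el wx := by
  rw [el_mul, el_mul]; exact el_eq (by decide +kernel)
theorem x1 : el wx ≠ 1 := el_ne (w := []) 1 (by decide +kernel)

theorem y_ne (k : ℕ) (hk : k < 5) : el wy ≠ el wx ^ k := by
  rw [el_pow]
  interval_cases k
  · exact el_ne 0 (by decide +kernel)
  · exact el_ne 0 (by decide +kernel)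
  · exact el_ne 0 (by decide +kernel)
  · exact el_ne 0 (by decide +kernel)
  · exact el_ne 0 (by decide +kernel)

theorem y_not_mem : el wy ∉ zpowers (el wx) := by
  rintro ⟨i, hi⟩
  have hi : el wx ^ i = el wy := hi
  have e1 : i = 5 * (i / 5) + ((i % 5).toNat : ℤ) := by omega
  apply y_ne (i % 5).toNat (by omega)
  rw [← hi]
  conv_lhs => rw [e1]
  rw [zpow_add, zpow_mul, show (5 : ℤ) = ((5 : ℕ) : ℤ) from rfl, zpow_natCast, x5, one_zpow, one_mul, zpow_natCast]

theorem kill_G : Kill 5 ↥G := by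
  have hfin : Finite ↥G := Nat.finite_of_card_ne_zero (by rw [card_G]; norm_num)
  refine kill_of_six ?_ x5 y5 xy x1 y_not_mem k01 ?_
  · rw [card_G, show (604800 : ℕ) = 5 ^ 2 * 24192 by norm_num, Nat.factorization_mul (by norm_num) (by norm_num),
      Finsupp.add_apply, Nat.Prime.factorization_pow (by norm_num), Finsupp.single_eq_same,
      Nat.factorization_eq_zero_of_not_dvd (by norm_num)]
  · intro r hr
    rw [el_pow, el_mul]
    interval_cases r
    · have h : wx ++ rp wy 0 = wx := List.append_nil _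
      rw [h]
      exact k10
    · exact k11
    · exact k12
    · exact k13
    · exact k14

/-- **No subgroup of order 5 of `J2` has `Pr 5`.** -/
theorem kill_j2_five {G' : Type u} [Group G'] (h : Spor.IsoJ2 G') : Kill 5 G' := by
  obtain ⟨e⟩ := h
  obtain ⟨f⟩ := J2_iso Cfsg.Agent.J2Sylow.SporSylow.card_J2
  exact kill_G.congr (e.trans f).symm

end Cfsg.Agent.H968.Tor.JTwo
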